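import Cfsg.Agent.Lib.Fi23Type.Type
import Cfsg.Agent.S5361

/-!
The presented Fi22 and Fi23 are witnesses for the types M(22) and M(23).
-/

set_option autoImplicit false
set_option maxRecDepth 100000

namespace Cfsg.Agent.FischerTypes

open Cfsg.Agent.CosetCert
open Cfsg.Agent.CosetData
open Cfsg.Agent.FischerPresented
open Cfsg.Agent.Fischer.Factor (Nb)

universe u

theorem prim_of_simple {G : Type u} [Group G] [Finite G] [IsSimpleGroup G] {D : Set G}
    (hD : Cfsg.IsThreeTranspositionClass D) (hZ : Subgroup.center G = ⊥)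
    (hw : ∃ a ∈ D, ∃ b ∈ D, a ≠ b ∧ Commute a b) : Cfsg.IsPrimitiveUnderConj D := by
  refine (S5361.result hD hZ hw).1.1 ?_
  have htop : commutator G = ⊤ := by
    refine (inferInstance : (commutator G).Normal).eq_bot_or_eq_top.resolve_left fun h => ?_
    have hc : Subgroup.center G = ⊤ := by
      rw [eq_top_iff]
      intro x _
      refine Subgroup.mem_center_iff.2 fun y => commutatorElement_eq_one_iff_mul_comm.1 ?_
      rw [← Subgroup.mem_bot, ← h, commutator_def]
      exact Subgroup.commutator_mem_commutator (Subgroup.mem_top y) (Subgroup.mem_top x)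
    exact bot_ne_top (hZ.symm.trans hc)
  rw [htop]
  exact MulEquiv.isSimpleGroup Subgroup.topEquiv

theorem exists_m22 : ∃ (X : Type) (_ : Group X) (_ : Finite X) (E : Set X), Cfsg.IsThreeTranspositionClass E ∧
    Cfsg.IsPrimitiveUnderConj E ∧ Cfsg.IsOfTypeM22 X E := by
  haveI := Fi22.order_facts.1
  haveI := Fi22.isSimpleGroup
  have hid : (MulEquiv.refl Fi22Local.GG : Fi22Local.GG → Fi22Local.GG) '' Fi22Class.D = Fi22Class.D :=
    Set.image_id' _
  refine ⟨Fi22Local.GG, inferInstance, Fi22.order_facts.1, Fi22Class.D, Fi22Class.isClass,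
    prim_of_simple Fi22Class.isClass Fi22Type.center_GG ?_, Fi22Type.type_m22 (MulEquiv.refl _) hid⟩
  by_contra hcon
  push Not at hcon
  have hH : Fi22.H = ⊥ := by
    rw [← FischerUnique.closure_nb_z]
    refine Subgroup.closure_eq_bot_iff.2 fun y hy => ?_
    exact absurd hy.2.2 (hcon _ (mem_conjugatesOf_self) y hy.1 hy.2.1.symm)
  have h := Subgroup.index_bot (G := Fi22Local.GG)
  rw [← hH, Fi22Class.exists_frame.1, Fi22.order_facts.2.1] at h
  omega

theorem exists_m23 : ∃ (X : Type) (_ : Group X) (_ : Finite X) (E : Set X), Cfsg.IsThreeTranspositionClass E ∧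
    Cfsg.IsPrimitiveUnderConj E ∧ Cfsg.IsOfTypeM23 X E := by
  haveI := Fi23.order_facts.1
  haveI := Fi23.isSimpleGroup
  have hid : (MulEquiv.refl (Setup.G Fi23A.setup) : Setup.G Fi23A.setup → Setup.G Fi23A.setup) '' Fi23.D = Fi23.D :=
    Set.image_id' _
  refine ⟨Setup.G Fi23A.setup, inferInstance, Fi23.order_facts.1, Fi23.D, Fi23.isClass,
    prim_of_simple Fi23.isClass Fi23Type.center_GT ?_, Fi23Type.type_m23 (MulEquiv.refl _) hid⟩
  have h := FischerUnique23.gen_nb 0 (by norm_num)
  exact ⟨_, FischerUnique23.z23_mem, _, h.1, h.2.1.symm, h.2.2⟩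

end Cfsg.Agent.FischerTypes
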